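import Mathlib.GroupTheory.Sylow
import Mathlib.GroupTheory.Index
import Mathlib.GroupTheory.NoncommCoprod
import Mathlib.GroupTheory.Commutator.Basic
import Mathlib.NumberTheory.Padics.PadicVal.Basic
import Mathlib.Algebra.BigOperators.Field
import Cfsg.Agent.Lib.PGroup.Basic

/-!
# Mean breadth of a finite `p`-group

`br p g` is the exponent of `p` in the index of the centralizer of `g`, `meanBr p G` its average.
For a central subgroup `N` the breadth of `g` exceeds that of its image in `G ⧸ N` by `drop N g`.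
If `u` lies in the second centre and `r = br p u`, then comparing `g` with `g * u` gives
`r + 1 ≤ br p g + drop N (g * u)` for `g` not centralizing `u`, and summing over `g` yields the
two inequalities of `step_bound`.
-/

set_option autoImplicit false

namespace Cfsg.Agent.Breadth

open scoped commutatorElement
open Finset

universe u

variable {G : Type u} [Group G] {p : ℕ}

/-- The breadth of an element. -/
noncomputable def br (p : ℕ) {G : Type u} [Group G] (g : G) : ℕ :=
  padicValNat p (Subgroup.centralizer ({g} : Set G)).index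

theorem index_centralizer [Finite G] [Fact p.Prime] (hG : IsPGroup p G) (g : G) :
    (Subgroup.centralizer ({g} : Set G)).index = p ^ br p g := by
  obtain ⟨k, hk⟩ := hG.index (Subgroup.centralizer ({g} : Set G))
  rw [br, hk, padicValNat.prime_pow]

theorem mem_centralizer_singleton' {g h : G} :
    h ∈ Subgroup.centralizer ({g} : Set G) ↔ ⁅g, h⁆ = 1 := by
  rw [Subgroup.mem_centralizer_singleton_iff, commutatorElement_eq_one_iff_mul_comm, eq_comm]

theorem centralizer_eq_top_iff {g : G} :
    Subgroup.centralizer ({g} : Set G) = ⊤ ↔ g ∈ Subgroup.center G := by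
  rw [Subgroup.mem_center_iff, Subgroup.eq_top_iff']
  simp [Subgroup.mem_centralizer_singleton_iff]

theorem br_eq_zero [Finite G] [Fact p.Prime] (hG : IsPGroup p G) {g : G} :
    br p g = 0 ↔ g ∈ Subgroup.center G := by
  rw [← centralizer_eq_top_iff, ← Subgroup.index_eq_one, index_centralizer hG, Nat.pow_eq_one]
  simp [(Fact.out (p := p.Prime)).ne_one]

theorem br_le [Finite G] [Fact p.Prime] (hG : IsPGroup p G) {g : G} {b : ℕ}
    (h : (Subgroup.centralizer ({g} : Set G)).index ≤ p ^ b) : br p g ≤ b := by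
  rw [index_centralizer hG] at h
  exact (Nat.pow_le_pow_iff_right (Fact.out (p := p.Prime)).one_lt).mp h

/-- The sum of the breadths. -/
noncomputable def sumBr (p : ℕ) (G : Type u) [Group G] [Fintype G] : ℕ :=
  ∑ g : G, br p g

/-- The average breadth. -/
noncomputable def meanBr (p : ℕ) (G : Type u) [Group G] [Fintype G] : ℚ :=
  (sumBr p G : ℚ) / Fintype.card G

theorem meanBr_nonneg [Fintype G] : 0 ≤ meanBr p G := by
  unfold meanBr
  positivity

section central

variable (N : Subgroup G) [N.Normal]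

/-- The elements commuting with `g` modulo `N`. -/
def upper (g : G) : Subgroup G :=
  (Subgroup.centralizer ({QuotientGroup.mk' N g} : Set (G ⧸ N))).comap (QuotientGroup.mk' N)

theorem mem_upper {g h : G} : h ∈ upper N g ↔ ⁅g, h⁆ ∈ N := by
  rw [upper, Subgroup.mem_comap, mem_centralizer_singleton', ← map_commutatorElement]
  exact QuotientGroup.eq_one_iff _

theorem centralizer_le_upper (g : G) : Subgroup.centralizer ({g} : Set G) ≤ upper N g := by
  intro h hh
  rw [mem_upper, mem_centralizer_singleton'.mp hh]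
  exact N.one_mem

theorem index_upper [Finite G] [Fact p.Prime] (hG : IsPGroup p G) (g : G) :
    (upper N g).index = p ^ br p (QuotientGroup.mk' N g) := by
  rw [upper, Subgroup.index_comap_of_surjective _ (QuotientGroup.mk'_surjective N)]
  exact index_centralizer (hG.to_quotient N) _

theorem br_mk_le [Finite G] [Fact p.Prime] (hG : IsPGroup p G) (g : G) :
    br p (QuotientGroup.mk' N g) ≤ br p g := by
  have h := Nat.le_of_dvd (Nat.pos_of_ne_zero Subgroup.index_ne_zero_of_finite)
    (Subgroup.index_dvd_of_le (centralizer_le_upper N g))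
  rw [index_upper N hG, index_centralizer hG] at h
  exact (Nat.pow_le_pow_iff_right (Fact.out (p := p.Prime)).one_lt).mp h

/-- The loss of breadth modulo `N`. -/
noncomputable def drop (p : ℕ) (N : Subgroup G) [N.Normal] (g : G) : ℕ :=
  br p g - br p (QuotientGroup.mk' N g)

theorem br_mk_add_drop [Finite G] [Fact p.Prime] (hG : IsPGroup p G) (g : G) :
    br p (QuotientGroup.mk' N g) + drop p N g = br p g :=
  Nat.add_sub_cancel' (br_mk_le N hG g)

theorem relIndex_upper [Finite G] [Fact p.Prime] (hG : IsPGroup p G) (g : G) :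
    (Subgroup.centralizer ({g} : Set G)).relIndex (upper N g) = p ^ drop p N g := by
  have h := Subgroup.relIndex_mul_index (centralizer_le_upper N g)
  rw [index_upper N hG, index_centralizer hG, ← br_mk_add_drop N hG g, Nat.pow_add,
    mul_comm (p ^ br p (QuotientGroup.mk' N g))] at h
  exact Nat.eq_of_mul_eq_mul_right (Nat.pos_of_ne_zero (pow_ne_zero _
    (Fact.out (p := p.Prime)).ne_zero)) h

end central

/-- `h ↦ ⁅g, h⁆` is a homomorphism on a subgroup on which its values are central. -/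
def commHom (g : G) (K : Subgroup G) (hK : ∀ h ∈ K, ⁅g, h⁆ ∈ Subgroup.center G) : ↥K →* G where
  toFun h := ⁅g, (h : G)⁆
  map_one' := by simp
  map_mul' h k := by
    show ⁅g, (h : G) * k⁆ = _
    rw [show ⁅g, (h : G) * k⁆ = ⁅g, (h : G)⁆ * h * ⁅g, (k : G)⁆ * (h : G)⁻¹ by
      simp only [commutatorElement_def]; group]
    have hc := Subgroup.mem_center_iff.mp (hK k k.2) (h : G)
    calc ⁅g, (h : G)⁆ * h * ⁅g, (k : G)⁆ * (h : G)⁻¹
        = ⁅g, (h : G)⁆ * ((h : G) * ⁅g, (k : G)⁆) * (h : G)⁻¹ := by group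
      _ = ⁅g, (h : G)⁆ * (⁅g, (k : G)⁆ * (h : G)) * (h : G)⁻¹ := by rw [hc]
      _ = ⁅g, (h : G)⁆ * ⁅g, (k : G)⁆ := by group

theorem commHom_apply (g : G) (K : Subgroup G) (hK : ∀ h ∈ K, ⁅g, h⁆ ∈ Subgroup.center G) (h : ↥K) :
    commHom g K hK h = ⁅g, (h : G)⁆ := rfl

theorem card_range_commHom [Finite G] (g : G) (K : Subgroup G)
    (hK : ∀ h ∈ K, ⁅g, h⁆ ∈ Subgroup.center G) :
    Nat.card ↥(commHom g K hK).range = (Subgroup.centralizer ({g} : Set G)).relIndex K := by
  rw [← Subgroup.index_ker]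
  have : (commHom g K hK).ker = (Subgroup.centralizer ({g} : Set G)).subgroupOf K := by
    ext h
    rw [MonoidHom.mem_ker, commHom_apply, Subgroup.mem_subgroupOf, mem_centralizer_singleton']
  rw [this]
  rfl

/-- Comparison of `g` with `g * u` for `u` central modulo the central subgroup `N`. -/
theorem pair_ineq [Finite G] [Fact p.Prime] (hG : IsPGroup p G) (N : Subgroup G) [N.Normal]
    (hN : N ≤ Subgroup.center G) (u g : G) (hu : ∀ h : G, ⁅u, h⁆ ∈ N) (e : ℕ)
    (he : e = 0 ∨ e = 1 ∧ ⁅g, u⁆ ≠ 1) :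
    br p u + e ≤ br p g + drop p N (g * u) := by
  classical
  have hp : p.Prime := Fact.out
  set H := upper N g with hH
  have hmul : ∀ h : G, ⁅g * u, h⁆ = ⁅u, h⁆ * ⁅g, h⁆ := by
    intro h
    rw [show ⁅g * u, h⁆ = g * ⁅u, h⁆ * g⁻¹ * ⁅g, h⁆ by simp only [commutatorElement_def]; group,
      Subgroup.mem_center_iff.mp (hN (hu h)) g]
    group
  have hH' : upper N (g * u) = H := by
    ext h
    rw [hH, mem_upper, mem_upper, hmul]
    exact ⟨fun h1 => (N.mul_mem_cancel_left (hu h)).mp h1, fun h1 => N.mul_mem (hu h) h1⟩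
  have h1 : ∀ h ∈ H, ⁅g, h⁆ ∈ Subgroup.center G := fun h hh => hN ((mem_upper N).mp hh)
  have h2 : ∀ h ∈ H, ⁅g * u, h⁆ ∈ Subgroup.center G := fun h hh => hN ((mem_upper N).mp (hH' ▸ hh))
  have h3 : ∀ h ∈ H, ⁅u, h⁆ ∈ Subgroup.center G := fun h _ => hN (hu h)
  set A := (commHom g H h1).range with hA
  set B := (commHom (g * u) H h2).range with hB
  set D := (commHom u H h3).range with hD
  have hAc : Nat.card ↥A = p ^ drop p N g := by
    rw [hA, card_range_commHom, hH, relIndex_upper N hG]
  have hBc : Nat.card ↥B = p ^ drop p N (g * u) := by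
    rw [hB, card_range_commHom, ← hH', relIndex_upper N hG]
  have hAz : ∀ a ∈ A, a ∈ Subgroup.center G := by
    rintro a ⟨h, rfl⟩
    exact h1 _ h.2
  let f : ↥A × ↥B →* G := MonoidHom.noncommCoprod A.subtype B.subtype
    (fun a b => (Subgroup.mem_center_iff.mp (hAz _ a.2) (b : G)).symm)
  have hDle : D ≤ f.range := by
    rintro _ ⟨h, rfl⟩
    refine ⟨(⟨⁅g, (h : G)⁆⁻¹, A.inv_mem ⟨h, rfl⟩⟩, ⟨⁅g * u, (h : G)⁆, ⟨h, rfl⟩⟩), ?_⟩
    show (⁅g, (h : G)⁆)⁻¹ * ⁅g * u, (h : G)⁆ = ⁅u, (h : G)⁆
    rw [hmul, ← mul_assoc, Subgroup.mem_center_iff.mp (h3 _ h.2) (⁅g, (h : G)⁆)⁻¹]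
    group
  have hcard : Nat.card ↥f.range * Nat.card ↥f.ker = p ^ (drop p N g + drop p N (g * u)) := by
    rw [← Subgroup.index_ker, Subgroup.index_mul_card, Nat.card_prod, hAc, hBc, ← pow_add]
  have hker : p ^ e ≤ Nat.card ↥f.ker := by
    rcases he with rfl | ⟨rfl, hne⟩
    · rw [pow_zero]
      haveI : Nonempty ↥f.ker := ⟨1⟩
      exact Nat.card_pos
    · rw [pow_one]
      have huH : u ∈ H := by
        rw [hH, mem_upper]
        have := N.inv_mem (hu g)
        rwa [commutatorElement_inv] at this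
      have hzB : ⁅g * u, u⁆ = ⁅g, u⁆ := by
        simp [commutatorElement_def, mul_assoc]
      have hzk : ((⟨⁅g, u⁆, ⟨⟨u, huH⟩, rfl⟩⟩ : ↥A),
          (⟨⁅g, u⁆⁻¹, B.inv_mem ⟨⟨u, huH⟩, hzB⟩⟩ : ↥B)) ∈ f.ker := by
        show ⁅g, u⁆ * ⁅g, u⁆⁻¹ = 1
        group
      have hbot : f.ker ≠ ⊥ := by
        intro hb
        rw [hb, Subgroup.mem_bot] at hzk
        exact hne (congrArg Subtype.val (congrArg Prod.fst hzk))
      have hdvd : Nat.card ↥f.ker ∣ p ^ (drop p N g + drop p N (g * u)) := ⟨_, by rw [← hcard, mul_comm]⟩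
      obtain ⟨i, -, hi⟩ := (Nat.dvd_prime_pow hp).mp hdvd
      rcases i with _ | i
      · exact absurd (Subgroup.card_eq_one.mp (by simpa using hi)) hbot
      · rw [hi]; exact Nat.le_self_pow (by omega) p
  have hkey : Nat.card ↥D * p ^ e ≤ p ^ (drop p N g + drop p N (g * u)) := by
    rw [← hcard]
    exact Nat.mul_le_mul (Subgroup.card_le_of_le hDle) hker
  have hDc : p ^ br p u ≤ Nat.card ↥D * p ^ br p (QuotientGroup.mk' N g) := by
    rw [hD, card_range_commHom, ← index_upper N hG, ← index_centralizer hG, ← hH,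
      ← Subgroup.inf_relIndex_right, Subgroup.relIndex_mul_index inf_le_right]
    exact Nat.le_of_dvd (Nat.pos_of_ne_zero Subgroup.index_ne_zero_of_finite)
      (Subgroup.index_dvd_of_le inf_le_left)
  have hle : p ^ (br p u + e) ≤ p ^ (br p g + drop p N (g * u)) := by
    calc p ^ (br p u + e) ≤ Nat.card ↥D * p ^ br p (QuotientGroup.mk' N g) * p ^ e := by
          rw [pow_add]; exact Nat.mul_le_mul_right _ hDc
      _ = Nat.card ↥D * p ^ e * p ^ br p (QuotientGroup.mk' N g) := by ring
      _ ≤ p ^ (drop p N g + drop p N (g * u)) * p ^ br p (QuotientGroup.mk' N g) :=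
          Nat.mul_le_mul_right _ hkey
      _ = _ := by rw [← pow_add]; congr 1; have := br_mk_add_drop N hG g; omega
  exact (Nat.pow_le_pow_iff_right hp.one_lt).mp hle

theorem sum_comp_mk' [Fintype G] (N : Subgroup G) [N.Normal] [Fintype (G ⧸ N)] (f : G ⧸ N → ℕ) :
    ∑ g : G, f (QuotientGroup.mk' N g) = Nat.card ↥N * ∑ q : G ⧸ N, f q := by
  classical
  have e := Subgroup.groupEquivQuotientProdSubgroup (s := N)
  have hfst : ∀ g : G, (Subgroup.groupEquivQuotientProdSubgroup (s := N) g).1 =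
      QuotientGroup.mk' N g := fun g => rfl
  simp only [← hfst]
  rw [Equiv.sum_comp (Subgroup.groupEquivQuotientProdSubgroup (s := N)) (fun x => f x.1),
    Fintype.sum_prod_type, Finset.mul_sum]
  refine Finset.sum_congr rfl fun q _ => ?_
  simp [Nat.card_eq_fintype_card]

theorem mean_split [Fintype G] [Fact p.Prime] (hG : IsPGroup p G) (N : Subgroup G) [N.Normal]
    [Fintype (G ⧸ N)] :
    meanBr p (G ⧸ N) + ((∑ g : G, drop p N g : ℕ) : ℚ) / Fintype.card G = meanBr p G := by
  have hS : sumBr p G = Nat.card ↥N * sumBr p (G ⧸ N) + ∑ g : G, drop p N g := by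
    rw [sumBr, sumBr, ← sum_comp_mk' N, ← Finset.sum_add_distrib]
    exact Finset.sum_congr rfl fun g _ => (br_mk_add_drop N hG g).symm
  have hcard : (Fintype.card G : ℚ) = Fintype.card (G ⧸ N) * (Nat.card ↥N : ℚ) := by
    rw [← Nat.card_eq_fintype_card, ← Nat.card_eq_fintype_card,
      Subgroup.card_eq_card_quotient_mul_card_subgroup N]
    push_cast
    ring
  have h1 : (Fintype.card (G ⧸ N) : ℚ) ≠ 0 := by exact_mod_cast Fintype.card_ne_zero
  have h2 : (Nat.card ↥N : ℚ) ≠ 0 := by exact_mod_cast Nat.card_pos.ne'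
  simp only [meanBr]
  rw [hS, hcard]
  push_cast
  field_simp

theorem card_commutator_quotient [Finite G] (N : Subgroup G) [N.Normal] (hN : N ≤ commutator G) :
    Nat.card ↥(commutator (G ⧸ N)) * Nat.card ↥N = Nat.card ↥(commutator G) := by
  have hmap : (commutator G).map (QuotientGroup.mk' N) = commutator (G ⧸ N) := by
    rw [commutator_def, commutator_def, Subgroup.map_commutator,
      Subgroup.map_top_of_surjective _ (QuotientGroup.mk'_surjective N)]
  have h := Subgroup.card_mul_index (N.subgroupOf (commutator G))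
  rw [Nat.card_congr (Subgroup.subgroupOfEquivOfLe hN).toEquiv] at h
  rw [← hmap, ← Subgroup.relIndex_ker, QuotientGroup.ker_mk', mul_comm]
  exact h

/-- The second centre. -/
def secondCenter (G : Type u) [Group G] : Subgroup G :=
  (Subgroup.center (G ⧸ Subgroup.center G)).comap (QuotientGroup.mk' (Subgroup.center G))

instance : (secondCenter G).Normal := by
  unfold secondCenter
  infer_instance

theorem mem_secondCenter {u : G} :
    u ∈ secondCenter G ↔ ∀ h : G, ⁅u, h⁆ ∈ Subgroup.center G := by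
  rw [secondCenter, Subgroup.mem_comap, Subgroup.mem_center_iff]
  constructor
  · intro h x
    have := h (QuotientGroup.mk' _ x)
    rw [← QuotientGroup.eq_one_iff, ← QuotientGroup.mk'_apply, map_commutatorElement,
      commutatorElement_eq_one_iff_mul_comm]
    exact this.symm
  · intro h q
    obtain ⟨x, rfl⟩ := QuotientGroup.mk'_surjective _ q
    have := h x
    rw [← QuotientGroup.eq_one_iff, ← QuotientGroup.mk'_apply, map_commutatorElement,
      commutatorElement_eq_one_iff_mul_comm] at this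
    exact this.symm

theorem center_le_secondCenter : Subgroup.center G ≤ secondCenter G := by
  intro z hz
  rw [mem_secondCenter]
  intro h
  have : ⁅z, h⁆ = 1 := commutatorElement_eq_one_iff_mul_comm.mpr (Subgroup.mem_center_iff.mp hz h).symm
  rw [this]
  exact Subgroup.one_mem _

theorem exists_mem_secondCenter [Finite G] [Fact p.Prime] (hG : IsPGroup p G) (K : Subgroup G)
    [K.Normal] (hK : ¬ K ≤ Subgroup.center G) :
    ∃ u ∈ K, u ∈ secondCenter G ∧ u ∉ Subgroup.center G := by
  set π := QuotientGroup.mk' (Subgroup.center G)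
  have hsurj := QuotientGroup.mk'_surjective (Subgroup.center G)
  haveI : (K.map π).Normal := Subgroup.Normal.map inferInstance π hsurj
  have hne : K.map π ≠ ⊥ := by
    rw [Ne, Subgroup.map_eq_bot_iff, QuotientGroup.ker_mk']
    exact hK
  obtain ⟨z, hz, hz1⟩ := (Subgroup.ne_bot_iff_exists_ne_one).mp
    (PGroup.inf_center_ne_bot (hG.to_quotient _) _ hne) |> fun ⟨z, hz⟩ => (⟨z.1, z.2, fun h => hz (Subtype.ext h)⟩ : ∃ z, z ∈ K.map π ⊓ Subgroup.center _ ∧ z ≠ 1)
  obtain ⟨u, huK, rfl⟩ := (Subgroup.mem_inf.mp hz).1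
  exact ⟨u, huK, (Subgroup.mem_inf.mp hz).2, fun h => hz1 ((QuotientGroup.eq_one_iff u).mpr h)⟩

theorem card_centralizer_mul [Finite G] [Fact p.Prime] (hG : IsPGroup p G) (g : G) :
    Nat.card ↥(Subgroup.centralizer ({g} : Set G)) * p ^ br p g = Nat.card G := by
  rw [← index_centralizer hG, Subgroup.card_mul_index]

/-- `LB p n x`: `x` bounds below the mean breadth of every finite `p`-group whose derived
subgroup has order `p ^ n`. -/
def LB (p n : ℕ) (x : ℚ) : Prop :=
  ∀ (H : Type u) [Group H] [Fintype H], IsPGroup p H → Nat.card ↥(commutator H) = p ^ n →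
    x ≤ meanBr p H

theorem LB.mono {n : ℕ} {x y : ℚ} (h : LB.{u} p n x) (hy : y ≤ x) : LB.{u} p n y :=
  fun H _ _ hH hc => hy.trans (h H hH hc)

/-- The two inequalities given by an element `v` of the second centre. -/
theorem step_bound [Fintype G] [Fact p.Prime] (hG : IsPGroup p G) {n : ℕ}
    (hn : Nat.card ↥(commutator G) = p ^ n) {v : G} (hv : v ∈ secondCenter G) :
    br p v ≤ n ∧ ∀ x : ℚ, LB.{u} p (n - br p v) x →
      x + (1 - (1 / (p : ℚ)) ^ br p v) ≤ meanBr p G ∧
      x + ((br p v : ℕ) : ℚ) + (1 - (1 / (p : ℚ)) ^ br p v) ≤ 2 * meanBr p G := by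
  classical
  have hp : p.Prime := Fact.out
  have hvc : ∀ h ∈ (⊤ : Subgroup G), ⁅v, h⁆ ∈ Subgroup.center G :=
    fun h _ => mem_secondCenter.mp hv h
  set N := (commHom v ⊤ hvc).range with hN
  have hNz : N ≤ Subgroup.center G := by
    rintro _ ⟨h, rfl⟩
    exact hvc _ (Subgroup.mem_top _)
  haveI : N.Normal := ⟨fun a ha g => by
    rw [Subgroup.mem_center_iff.mp (hNz ha) g]; simpa using ha⟩
  have hNc : N ≤ commutator G := by
    rintro _ ⟨h, rfl⟩
    rw [commutator_def]
    exact Subgroup.commutator_mem_commutator (Subgroup.mem_top _) (Subgroup.mem_top _)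
  have hcard : Nat.card ↥N = p ^ br p v := by
    rw [hN, card_range_commHom, Subgroup.relIndex_top_right, index_centralizer hG]
  have hq := card_commutator_quotient N hNc
  rw [hcard, hn] at hq
  have hle : br p v ≤ n := (Nat.pow_dvd_pow_iff_le_right hp.one_lt).mp ⟨_, by rw [← hq, mul_comm]⟩
  refine ⟨hle, fun x hx => ?_⟩
  haveI : Fintype (G ⧸ N) := Fintype.ofFinite _
  have hqn : Nat.card ↥(commutator (G ⧸ N)) = p ^ (n - br p v) := by
    refine Nat.eq_of_mul_eq_mul_right (pow_pos hp.pos (br p v)) ?_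
    rw [hq, ← pow_add, Nat.sub_add_cancel hle]
  have hx' := hx (G ⧸ N) (hG.to_quotient N) hqn
  have hu : ∀ h : G, ⁅v, h⁆ ∈ N := fun h => ⟨⟨h, Subgroup.mem_top _⟩, rfl⟩
  set C := Subgroup.centralizer ({v} : Set G) with hC
  let e : G → ℕ := fun g => if g ∈ C then 0 else 1
  have hgv : ∀ g : G, g ∉ C → ⁅g, v⁆ ≠ 1 := by
    intro g hg h1
    apply hg
    rw [hC, mem_centralizer_singleton', ← commutatorElement_inv, h1, inv_one]
  have h2 : ∀ g : G, br p v + e g ≤ br p g + drop p N (g * v) := by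
    intro g
    refine pair_ineq hG N hNz v g hu (e g) ?_
    by_cases hg : g ∈ C
    · exact Or.inl (if_pos hg)
    · exact Or.inr ⟨if_neg hg, hgv g hg⟩
  have h1 : ∀ g : G, e g ≤ drop p N g := by
    intro g
    by_cases hg : g ∈ C
    · simp [e, hg]
    · simp only [e, if_neg hg]
      by_contra h0
      have hd := relIndex_upper N hG g
      rw [show drop p N g = 0 by omega, pow_zero, Subgroup.relIndex_eq_one] at hd
      have hvU : v ∈ upper N g := by
        rw [mem_upper, ← commutatorElement_inv]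
        exact N.inv_mem (hu g)
      exact hgv g hg (mem_centralizer_singleton'.mp (hd hvU))
  set Δ := ∑ g : G, drop p N g with hΔ
  have hsum : ∑ g : G, drop p N (g * v) = Δ :=
    Equiv.sum_comp (Equiv.mulRight v) (fun g => drop p N g)
  have hO : (∑ g : G, e g) + Nat.card ↥C = Fintype.card G := by
    have : Nat.card ↥C = ∑ g : G, if g ∈ C then 1 else 0 := by
      rw [Finset.sum_boole, Nat.card_eq_fintype_card, Nat.cast_id]
      exact Fintype.card_subtype _
    rw [this, ← Finset.sum_add_distrib, Finset.sum_congr rfl (g := fun _ => 1)]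
    · simp
    · intro g _
      by_cases hg : g ∈ C <;> simp [e, hg]
  have hA : (∑ g : G, e g) ≤ Δ := Finset.sum_le_sum fun g _ => h1 g
  have hB : Fintype.card G * br p v + (∑ g : G, e g) ≤ sumBr p G + Δ := by
    have := Finset.sum_le_sum (s := (Finset.univ : Finset G)) fun g _ => h2 g
    rw [Finset.sum_add_distrib, Finset.sum_add_distrib, hsum] at this
    simpa [sumBr] using this
  set P : ℚ := (Fintype.card G : ℚ) with hP
  have hPpos : 0 < P := by rw [hP]; exact_mod_cast Fintype.card_pos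
  have hCq : (Nat.card ↥C : ℚ) = P * (1 / (p : ℚ)) ^ br p v := by
    have := card_centralizer_mul hG v
    rw [Nat.card_eq_fintype_card (α := G)] at this
    have hp0 : (p : ℚ) ^ br p v ≠ 0 := pow_ne_zero _ (by exact_mod_cast hp.ne_zero)
    rw [hP, ← this, ← hC, one_div, inv_pow]
    push_cast
    field_simp
  have hOq : ((∑ g : G, e g : ℕ) : ℚ) = P * (1 - (1 / (p : ℚ)) ^ br p v) := by
    have : ((∑ g : G, e g : ℕ) : ℚ) + (Nat.card ↥C : ℚ) = P := by rw [hP]; exact_mod_cast hO
    rw [hCq] at this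
    linarith
  have hAq : ((∑ g : G, e g : ℕ) : ℚ) ≤ (Δ : ℚ) := by exact_mod_cast hA
  have hBq : P * (br p v : ℚ) + ((∑ g : G, e g : ℕ) : ℚ) ≤ (sumBr p G : ℚ) + (Δ : ℚ) := by
    rw [hP]; exact_mod_cast hB
  have hsplit := mean_split hG N
  rw [← hΔ] at hsplit
  have hd1 : 1 - (1 / (p : ℚ)) ^ br p v ≤ (Δ : ℚ) / P := by
    rw [le_div_iff₀ hPpos]; linarith
  have hd2 : (br p v : ℚ) + (1 - (1 / (p : ℚ)) ^ br p v) ≤ meanBr p G + (Δ : ℚ) / P := by
    rw [meanBr, ← hP, ← add_div, le_div_iff₀ hPpos]; linarith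
  constructor <;> linarith

end Cfsg.Agent.Breadth
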