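import Cfsg.Agent.Lib.Breadth.Small

/-!
# Vaughan-Lee's breadth theorem

If `|G'| = p ^ (tri m + 1 + j)` with `j ≤ m + 1` (and at least `p ^ 3`) then the mean breadth is at
least `m + 2 ^ -(m + 1) + 2 ^ -(m + 1 - j)`. In particular `|G'| > p ^ tri b` forces the mean
breadth above `b`.
-/

set_option autoImplicit false

namespace Cfsg.Agent.Breadth

universe u

variable {p : ℕ}

/-- Triangular numbers. -/
def tri : ℕ → ℕ
  | 0 => 0
  | k + 1 => tri k + (k + 1)

theorem tri_succ (k : ℕ) : tri (k + 1) = tri k + (k + 1) := rfl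

theorem tri_eq (k : ℕ) : tri k = k * (k + 1) / 2 := by
  have h : 2 * tri k = k * (k + 1) := by
    induction k with
    | zero => rfl
    | succ k ih => rw [tri_succ]; linarith
  omega

theorem tri_le {a b : ℕ} (h : a ≤ b) : tri a ≤ tri b := by
  induction h with
  | refl => exact le_rfl
  | step _ ih => rw [tri_succ]; omega

theorem le_tri (k : ℕ) : k ≤ tri k := by
  cases k with
  | zero => exact le_rfl
  | succ k => rw [tri_succ]; omega

/-- The bound. -/
def th (m j : ℕ) : ℚ := (m : ℚ) + (1 / 2) ^ (m + 1) + (1 / 2) ^ (m + 1 - j)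

theorem th_zero (m : ℕ) : th m 0 = (m : ℚ) + (1 / 2) ^ m := by
  simp only [th, Nat.sub_zero, pow_succ]
  ring

theorem th_self (m : ℕ) : th m (m + 1) = th (m + 1) 0 := by
  rw [th_zero, th, Nat.sub_self, pow_zero]
  push_cast
  ring

theorem th_ge (m j : ℕ) : (m : ℚ) + (1 / 2) ^ m ≤ th m j := by
  have h : (1 / 2 : ℚ) ^ (m + 1) ≤ (1 / 2) ^ (m + 1 - j) :=
    pow_le_pow_of_le_one (by norm_num) (by norm_num) (Nat.sub_le _ _)
  have h2 : (1 / 2 : ℚ) ^ m = (1 / 2) ^ (m + 1) + (1 / 2) ^ (m + 1) := by rw [pow_succ]; ring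
  rw [th, h2]
  linarith

theorem exists_decomp (n : ℕ) (hn : 1 ≤ n) : ∃ m j, j ≤ m ∧ n = tri m + 1 + j := by
  induction n, hn using Nat.le_induction with
  | base => exact ⟨0, 0, le_rfl, rfl⟩
  | succ k _ ih =>
      obtain ⟨m, j, hj, rfl⟩ := ih
      rcases hj.lt_or_eq with h | h
      · exact ⟨m, j + 1, h, by omega⟩
      · exact ⟨m + 1, 0, Nat.zero_le _, by rw [tri_succ]; omega⟩

/-- The inductive statement at the exponent `n`. -/
def Main (p n : ℕ) : Prop :=
  ∀ m j : ℕ, 1 ≤ m → j ≤ m + 1 → n = tri m + 1 + j → 3 ≤ n → LB.{u} p n (th m j)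

/-- Values at or above a knot. -/
theorem knot {n q : ℕ} (h : Main.{u} p n) (hq : 2 ≤ q) (hn : tri q + 1 ≤ n) :
    LB.{u} p n ((q : ℚ) + (1 / 2) ^ q) := by
  obtain ⟨m, j, hj, rfl⟩ := exists_decomp n (by omega)
  have hqm : q ≤ m := by
    by_contra hlt
    have h1 := tri_le (show m + 1 ≤ q by omega)
    rw [tri_succ] at h1
    omega
  have hq' := le_tri q
  refine (h m j (by omega) (by omega) rfl (by omega)).mono (le_trans ?_ (th_ge m j))
  rcases hqm.lt_or_eq with h' | h'
  · have h1 : (q : ℚ) + 1 ≤ (m : ℚ) := by exact_mod_cast h'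
    have h2 : (1 / 2 : ℚ) ^ q ≤ 1 := pow_le_one₀ (by norm_num) (by norm_num)
    have h3 : (0 : ℚ) ≤ (1 / 2) ^ m := by positivity
    linarith
  · rw [h']

variable [Fact p.Prime]

/-- A bound which decreases by at most one when the exponent drops by one. -/
theorem crude {n : ℕ} (h : ∀ n' ≤ n, Main.{u} p n') : ∀ q n' : ℕ, n' ≤ n →
    ∃ x : ℚ, LB.{u} p n' x ∧ 0 ≤ x ∧ ((tri q + 1 ≤ n' ∧ (q : ℚ) ≤ x ∧
      (2 ≤ q → (q : ℚ) + (1 / 2) ^ q ≤ x)) ∨ (q : ℚ) + n' ≤ x + tri q + 1) := by
  intro q
  induction q with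
  | zero =>
      intro n' _
      rcases n'.eq_zero_or_pos with rfl | hpos
      · exact ⟨0, lb_zero, le_rfl, Or.inr (by simp [tri])⟩
      · refine ⟨0, fun _ _ _ _ _ => meanBr_nonneg, le_rfl, Or.inl ⟨?_, by simp, by omega⟩⟩
        simp only [tri]; omega
  | succ q ih =>
      intro n' hn'
      rcases Nat.lt_or_ge n' (tri (q + 1) + 1) with hlt | hge
      · obtain ⟨x, hx, hx0, hor⟩ := ih n' hn'
        refine ⟨x, hx, hx0, Or.inr ?_⟩
        have hlt' : (n' : ℚ) + 1 ≤ (tri (q + 1) : ℚ) + 1 := by exact_mod_cast hlt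
        rw [tri_succ] at hlt' ⊢
        push_cast at hlt' ⊢
        rcases hor with ⟨-, h2, -⟩ | h2
        · linarith
        · have : (0 : ℚ) ≤ q := by positivity
          linarith
      · rcases Nat.lt_or_ge (q + 1) 2 with hq | hq
        · obtain rfl : q = 0 := by omega
          norm_num [tri] at hge
          by_cases h3 : 3 ≤ n'
          · obtain ⟨m, j, hj, rfl⟩ := exists_decomp n' (by omega)
            have hm : 1 ≤ m := by
              rcases m with _ | m
              · simp only [tri] at hge h3; omega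
              · omega
            refine ⟨th m j, h _ hn' m j hm (by omega) rfl h3, ?_, Or.inl ⟨?_, ?_, by omega⟩⟩
            · have := th_ge m j
              have h1 : (0 : ℚ) ≤ m := by positivity
              have h2 : (0 : ℚ) ≤ (1 / 2) ^ m := by positivity
              linarith
            · norm_num [tri]; omega
            · have := th_ge m j
              have h1 : (1 : ℚ) ≤ m := by exact_mod_cast hm
              have h2 : (0 : ℚ) ≤ (1 / 2) ^ m := by positivity
              push_cast
              linarith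
          · obtain rfl : n' = 2 := by omega
            exact ⟨5 / 4, lb_two, by norm_num, Or.inl ⟨by simp [tri], by norm_num, by omega⟩⟩
        · refine ⟨((q + 1 : ℕ) : ℚ) + (1 / 2) ^ (q + 1), knot (h n' hn') hq hge, by positivity,
            Or.inl ⟨hge, ?_, fun _ => le_rfl⟩⟩
          have : (0 : ℚ) ≤ (1 / 2) ^ (q + 1) := by positivity
          linarith

theorem main_all : ∀ n : ℕ, Main.{u} p n := by
  intro n
  induction n using Nat.strong_induction_on with
  | _ n ih =>
  intro m j hm hj hn h3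
  rcases hm.lt_or_eq with hm2 | hm1
  swap
  · subst hm1
    obtain rfl | rfl : j = 1 ∨ j = 2 := by simp [tri] at hn; omega
    · obtain rfl : n = 3 := by simp [tri] at hn; omega
      exact lb_three.mono (by norm_num [th])
    · obtain rfl : n = 4 := by simp [tri] at hn; omega
      exact lb_four.mono (by norm_num [th])
  obtain ⟨m, rfl⟩ : ∃ k, m = k + 1 := ⟨m - 1, by omega⟩
  -- it suffices to treat `1 ≤ j`
  suffices key : ∀ m j : ℕ, 2 ≤ m → 1 ≤ j → j ≤ m + 1 → n = tri m + 1 + j → LB.{u} p n (th m j) by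
    rcases j.eq_zero_or_pos with rfl | hj1
    · rcases (show 1 ≤ m by omega).lt_or_eq with hmm | hmm
      · rw [← th_self]
        exact key m (m + 1) hmm (by omega) le_rfl (by rw [hn, tri_succ]; omega)
      · subst hmm
        obtain rfl : n = 4 := by simp [tri] at hn; omega
        exact lb_four.mono (by norm_num [th])
    · exact key (m + 1) j hm2 hj1 hj hn
  clear hn hj hm2 hm j m h3
  intro m j hm2 hj1 hj hn G _ _ hG hc
  have htri := le_tri m
  obtain ⟨v, hv, hr1⟩ := exists_step hG hc (by omega)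
  have hrn := (step_bound hG hc hv).1
  obtain ⟨r, hr⟩ : ∃ r, br p v = r := ⟨_, rfl⟩
  rw [hr] at hr1 hrn
  have hih : ∀ n' ≤ n - r, Main.{u} p n' := fun n' hn' => ih n' (by omega)
  obtain ⟨m, rfl⟩ : ∃ k, m = k + 1 := ⟨m - 1, by omega⟩
  have htm := tri_succ m
  have hAnn : (0 : ℚ) ≤ (1 / 2 : ℚ) ^ r := by positivity
  rcases Nat.lt_or_ge (m + 2) r with hrbig | hrle
  · -- `r > m + 2`: second inequality
    have hA : (1 / 2 : ℚ) ^ r ≤ (1 / 2) ^ (m + 3) :=
      pow_le_pow_of_le_one (by norm_num) (by norm_num) hrbig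
    have e3 : (1 / 2 : ℚ) ^ (m + 3) = (1 / 2) ^ (m + 2) * (1 / 2) := by rw [pow_succ]
    have hB : (1 / 2 : ℚ) ^ (m + 2) ≤ 1 / 8 := by
      have : (1 / 2 : ℚ) ^ (m + 2) ≤ (1 / 2) ^ 3 := pow_le_pow_of_le_one (by norm_num) (by norm_num) (by omega)
      norm_num at this ⊢
      linarith
    have hB0 : (0 : ℚ) ≤ (1 / 2) ^ (m + 2) := by positivity
    have hr' : (m : ℚ) + 3 ≤ (r : ℚ) := by exact_mod_cast hrbig
    rcases Nat.lt_or_ge j 2 with hj2 | hj2
    · obtain rfl : j = 1 := by omega
      obtain ⟨x, hx, -, hor⟩ := crude hih m (n - r) le_rfl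
      have h := (step_half hG hc hv hr hx).2
      rw [th]
      rw [show m + 1 + 1 - 1 = m + 1 by omega, show m + 1 + 1 = m + 2 by omega,
        show (1 / 2 : ℚ) ^ (m + 1) = 2 * (1 / 2) ^ (m + 2) by rw [pow_succ _ (m + 1)]; ring]
      push_cast
      rcases hor with ⟨-, h2, -⟩ | h2
      · linarith
      · have hnr : ((n - r : ℕ) : ℚ) + (r : ℚ) = (tri m : ℚ) + m + 3 := by
          have : n - r + r = tri m + m + 3 := by omega
          exact_mod_cast this
        linarith
    rcases Nat.lt_or_ge j (m + 2) with hjm | hjm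
    · obtain ⟨x, hx, -, hor⟩ := crude hih m (n - r) le_rfl
      have h := (step_half hG hc hv hr hx).2
      have hth : th (m + 1) j ≤ (m : ℚ) + 1 + (1 / 2) ^ (m + 2) + 1 / 2 := by
        have hle : (1 / 2 : ℚ) ^ (m + 1 + 1 - j) ≤ (1 / 2) ^ 1 :=
          pow_le_pow_of_le_one (by norm_num) (by norm_num) (by omega)
        rw [th]
        push_cast
        norm_num at hle ⊢
        linarith
      rcases hor with ⟨-, h2, -⟩ | h2
      · linarith
      · have hnr : ((n - r : ℕ) : ℚ) + (r : ℚ) = (tri m : ℚ) + m + 2 + j := by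
          have : n - r + r = tri m + m + 2 + j := by omega
          exact_mod_cast this
        have hj' : (2 : ℚ) ≤ j := by exact_mod_cast hj2
        linarith
    · obtain rfl : j = m + 2 := by omega
      rw [show m + 2 = (m + 1) + 1 from rfl, th_self, th_zero]
      push_cast
      rw [show m + 1 + 1 = m + 2 from rfl]
      rcases Nat.lt_or_ge m 2 with hm1 | hm1
      · obtain rfl : m = 1 := by omega
        obtain rfl : n = 7 := by simp [tri] at hn; omega
        obtain rfl | rfl | rfl | rfl : r = 4 ∨ r = 5 ∨ r = 6 ∨ r = 7 := by omega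
        · have h := (step_half hG hc hv hr lb_three).2
          norm_num at h ⊢; linarith
        · have h := (step_half hG hc hv hr lb_two).2
          norm_num at h ⊢; linarith
        · have h := (step_half hG hc hv hr lb_one').2
          norm_num at h ⊢; linarith
        · have h := (step_half hG hc hv hr lb_zero).2
          norm_num at h ⊢; linarith
      · obtain ⟨x, hx, -, hor⟩ := crude hih m (n - r) le_rfl
        have h := (step_half hG hc hv hr hx).2
        rcases hor with ⟨-, -, h2⟩ | h2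
        · have h2' := h2 hm1
          rw [show (1 / 2 : ℚ) ^ m = 4 * (1 / 2) ^ (m + 2) by rw [pow_succ, pow_succ]; ring] at h2'
          linarith
        · have hnr : ((n - r : ℕ) : ℚ) + (r : ℚ) = (tri m : ℚ) + 2 * m + 4 := by
            have : n - r + r = tri m + 2 * m + 4 := by omega
            exact_mod_cast this
          have hm' : (2 : ℚ) ≤ m := by exact_mod_cast hm1
          linarith
  rcases Nat.lt_or_ge j r with hjr | hjr
  · -- into the previous segment
    obtain ⟨i, hi⟩ : ∃ i, r = j + i := ⟨r - j, by omega⟩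
    rcases Nat.lt_or_ge (n - r) 3 with hsmall | hbig
    · obtain rfl : m = 1 := by
        have := le_tri m
        omega
      simp only [tri] at hn
      obtain ⟨rfl, rfl, rfl⟩ : j = 1 ∧ r = 3 ∧ n = 5 := by omega
      have h := (step_half hG hc hv hr lb_two).2
      norm_num [th] at h ⊢
      linarith
    have hx : LB.{u} p (n - r) (th m (m + 1 - i)) :=
      ih (n - r) (by omega) m (m + 1 - i) (by omega) (by omega) (by omega) hbig
    have h := (step_half hG hc hv hr hx).1
    refine le_trans ?_ h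
    simp only [th]
    rw [show m + 1 - (m + 1 - i) = i by omega]
    set A := (1 / 2 : ℚ) ^ r with hA
    set B := (1 / 2 : ℚ) ^ (m + 1 + 1) with hB
    set J := (2 : ℚ) ^ j with hJ
    have hJ1 : 1 ≤ J := one_le_pow₀ (by norm_num)
    have hJpos : J ≠ 0 := by positivity
    have e1 : (1 / 2 : ℚ) ^ i = J * A := by
      rw [hA, hi, pow_add, hJ, ← mul_assoc, ← mul_pow]
      norm_num
    have e2 : (1 / 2 : ℚ) ^ (m + 1 + 1 - j) = J * B := by
      have hsplit : (1 / 2 : ℚ) ^ (m + 1 + 1) = (1 / 2) ^ j * (1 / 2) ^ (m + 1 + 1 - j) := by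
        rw [← pow_add]; congr 1; omega
      rw [hB, hJ, hsplit, ← mul_assoc, ← mul_pow]
      norm_num
    have e3 : (1 / 2 : ℚ) ^ (m + 1) = 2 * B := by rw [hB, pow_succ _ (m + 1)]; ring
    have hBA : B ≤ A := pow_le_pow_of_le_one (by norm_num) (by norm_num) hrle
    rw [e1, e2, e3]
    push_cast
    nlinarith [mul_nonneg (sub_nonneg.mpr hJ1) (sub_nonneg.mpr hBA)]
  · -- within the segment
    have hx : LB.{u} p (n - r) (th (m + 1) (j - r)) :=
      ih (n - r) (by omega) (m + 1) (j - r) (by omega) (by omega) (by omega) (by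
        have := le_tri m
        omega)
    have h := (step_half hG hc hv hr hx).1
    refine le_trans ?_ h
    simp only [th]
    have e : (1 / 2 : ℚ) ^ (m + 1 + 1 - (j - r)) = (1 / 2) ^ (m + 1 + 1 - j) * (1 / 2) ^ r := by
      rw [← pow_add]; congr 1; omega
    rw [e]
    have hC1 : (1 / 2 : ℚ) ^ (m + 1 + 1 - j) ≤ 1 := pow_le_one₀ (by norm_num) (by norm_num)
    have hA1 : (1 / 2 : ℚ) ^ r ≤ 1 := pow_le_one₀ (by norm_num) (by norm_num)
    nlinarith [mul_nonneg (sub_nonneg.mpr hC1) (sub_nonneg.mpr hA1)]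

/-- Vaughan-Lee's theorem. -/
theorem card_commutator_le {G : Type u} [Group G] [Finite G] (hG : IsPGroup p G) (b : ℕ)
    (hb : ∀ x : G, (Subgroup.centralizer ({x} : Set G)).index ≤ p ^ b) :
    Nat.card ↥(commutator G) ≤ p ^ (b * (b + 1) / 2) := by
  classical
  have : Fintype G := Fintype.ofFinite G
  have hp : p.Prime := Fact.out
  rw [← tri_eq]
  obtain ⟨n, hn⟩ := PGroup.card_eq_pow hG (commutator G)
  rw [hn]
  refine Nat.pow_le_pow_right hp.pos ?_
  by_contra hlt
  have hbr : ∀ g : G, br p g ≤ b := fun g => br_le hG (hb g)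
  have hmean : meanBr p G ≤ b := by
    have hP : (0 : ℚ) < Fintype.card G := by exact_mod_cast Fintype.card_pos
    rw [meanBr, div_le_iff₀ hP]
    have : sumBr p G ≤ b * Fintype.card G := by
      calc sumBr p G ≤ ∑ _g : G, b := Finset.sum_le_sum fun g _ => hbr g
        _ = _ := by simp [mul_comm]
    exact_mod_cast this
  rcases Nat.lt_or_ge b 2 with hb2 | hb2
  · obtain rfl | rfl : b = 0 ∨ b = 1 := by omega
    · refine not_top_le_center hn (by simp [tri] at hlt; omega) fun x _ => ?_
      exact (br_eq_zero hG).mp (Nat.le_zero.mp (hbr x))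
    · simp [tri] at hlt
      rcases Nat.lt_or_ge n 3 with h3 | h3
      · obtain rfl : n = 2 := by omega
        have := lb_two G hG hn
        norm_num at hmean
        linarith
      · obtain ⟨m, j, hj, hmj⟩ := exists_decomp n (by omega)
        have hm : 1 ≤ m := by
          rcases m with _ | m
          · simp [tri] at hmj; omega
          · omega
        have := main_all n m j hm (by omega) hmj h3 G hG hn
        have h2 := th_ge m j
        have h4 : (0 : ℚ) < (1 / 2) ^ m := by positivity
        have h5 : (1 : ℚ) ≤ m := by exact_mod_cast hm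
        norm_num at hmean
        linarith
  · have := knot (main_all n) hb2 (by omega) G hG hn
    have h4 : (0 : ℚ) < (1 / 2) ^ b := by positivity
    linarith

end Cfsg.Agent.Breadth
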