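import Cfsg.Agent.Lib.Breadth.Basic
import Mathlib.GroupTheory.SpecificGroups.Cyclic

/-!
# Mean breadth when the derived subgroup has order at most `p ^ 4`

`LB` bounds `0, 1 - p⁻², 5/4, 7/4, 9/4` for derived subgroups of order `p ^ 0, ..., p ^ 4`.
-/

set_option autoImplicit false

namespace Cfsg.Agent.Breadth

open scoped commutatorElement
open Finset

universe u

variable {G : Type u} [Group G] {p : ℕ}

theorem relIndex_mono [Finite G] {H K L : Subgroup G} (hKL : K ≤ L) :
    H.relIndex K ≤ H.relIndex L :=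
  Subgroup.relIndex_le_of_le_right hKL (Subgroup.index_ne_zero_of_finite (H := H.subgroupOf L))

theorem half_pow (hp : p.Prime) (r : ℕ) : (1 / (p : ℚ)) ^ r ≤ (1 / 2 : ℚ) ^ r := by
  refine pow_le_pow_left₀ (by positivity) ?_ r
  exact one_div_le_one_div_of_le (by norm_num) (by exact_mod_cast hp.two_le)

theorem step_half [Fintype G] [Fact p.Prime] (hG : IsPGroup p G) {n : ℕ}
    (hn : Nat.card ↥(commutator G) = p ^ n) {v : G} (hv : v ∈ secondCenter G) {r : ℕ}
    (hr : br p v = r) {x : ℚ} (hx : LB.{u} p (n - r) x) :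
    x + (1 - (1 / 2 : ℚ) ^ r) ≤ meanBr p G ∧
      x + (r : ℚ) + (1 - (1 / 2 : ℚ) ^ r) ≤ 2 * meanBr p G := by
  subst hr
  have h := half_pow (Fact.out (p := p.Prime)) (br p v)
  obtain ⟨h1, h2⟩ := (step_bound hG hn hv).2 x hx
  constructor <;> linarith

theorem not_top_le_center [Finite G] [Fact p.Prime] {n : ℕ} (hn : Nat.card ↥(commutator G) = p ^ n)
    (hn1 : 1 ≤ n) : ¬ (⊤ : Subgroup G) ≤ Subgroup.center G := by
  intro h
  have hbot : commutator G = ⊥ := by
    rw [commutator_def, Subgroup.commutator_eq_bot_iff_le_centralizer]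
    intro x _
    rw [Subgroup.mem_centralizer_iff]
    intro y _
    exact Subgroup.mem_center_iff.mp (h (Subgroup.mem_top x)) y
  rw [hbot, Subgroup.card_bot] at hn
  have := Nat.one_lt_pow (by omega : n ≠ 0) (Fact.out (p := p.Prime)).one_lt
  omega

theorem exists_step [Finite G] [Fact p.Prime] (hG : IsPGroup p G) {n : ℕ}
    (hn : Nat.card ↥(commutator G) = p ^ n) (hn1 : 1 ≤ n) :
    ∃ v ∈ secondCenter G, 1 ≤ br p v := by
  obtain ⟨v, -, hv, hvz⟩ := exists_mem_secondCenter hG ⊤ (not_top_le_center hn hn1)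
  exact ⟨v, hv, Nat.one_le_iff_ne_zero.mpr fun h => hvz ((br_eq_zero hG).mp h)⟩

theorem lb_zero : LB.{u} p 0 0 := fun _ _ _ _ _ => meanBr_nonneg

theorem lb_one [Fact p.Prime] : LB.{u} p 1 (1 - (1 / (p : ℚ)) ^ 2) := by
  intro G _ _ hG hn
  classical
  have hp : p.Prime := Fact.out
  set Z := Subgroup.center G
  obtain ⟨k, hk⟩ := hG.index Z
  have hk2 : 2 ≤ k := by
    by_contra h
    apply not_top_le_center (G := G) hn le_rfl
    intro x _
    rw [Subgroup.mem_center_iff]
    intro y
    haveI : IsCyclic (G ⧸ Z) := by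
      interval_cases k
      · haveI : Subsingleton (G ⧸ Z) := by
          rw [← Finite.card_le_one_iff_subsingleton, ← Subgroup.index_eq_card, hk, pow_zero]
        infer_instance
      · exact isCyclic_of_prime_card (p := p) (by rw [← Subgroup.index_eq_card, hk, pow_one])
    exact commutative_of_cyclic_center_quotient (QuotientGroup.mk' Z)
      (le_of_eq (QuotientGroup.ker_mk' Z)) y x
  have hge : (Fintype.card G : ℚ) - (Nat.card ↥Z : ℚ) ≤ (sumBr p G : ℚ) := by
    have hz : Nat.card ↥Z = ∑ g : G, if g ∈ Z then 1 else 0 := by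
      rw [Finset.sum_boole, Nat.card_eq_fintype_card, Nat.cast_id]
      exact Fintype.card_subtype _
    have : Fintype.card G ≤ sumBr p G + Nat.card ↥Z := by
      rw [sumBr, hz, ← Finset.sum_add_distrib, Fintype.card_eq_sum_ones]
      refine Finset.sum_le_sum fun g _ => ?_
      by_cases hg : g ∈ Z
      · simp [hg]
      · have : br p g ≠ 0 := fun h => hg ((br_eq_zero hG).mp h)
        simp [hg]; omega
    have : (Fintype.card G : ℚ) ≤ (sumBr p G : ℚ) + (Nat.card ↥Z : ℚ) := by exact_mod_cast this
    linarith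
  have hzc : (Fintype.card G : ℚ) = (Nat.card ↥Z : ℚ) * (p : ℚ) ^ k := by
    rw [← Nat.card_eq_fintype_card, ← Subgroup.card_mul_index Z, hk]
    push_cast; ring
  have hpow : (1 / (p : ℚ)) ^ k ≤ (1 / (p : ℚ)) ^ 2 :=
    pow_le_pow_of_le_one (by positivity)
      (by rw [div_le_one (by exact_mod_cast hp.pos)]; exact_mod_cast hp.one_lt.le) hk2
  have hP : (0 : ℚ) < Fintype.card G := by exact_mod_cast Fintype.card_pos
  have hinv : (Fintype.card G : ℚ) * (1 / (p : ℚ)) ^ k = (Nat.card ↥Z : ℚ) := by
    rw [hzc, mul_assoc, ← mul_pow, mul_one_div, div_self (by exact_mod_cast hp.ne_zero), one_pow,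
      mul_one]
  rw [meanBr, le_div_iff₀ hP]
  nlinarith

theorem lb_one' [Fact p.Prime] : LB.{u} p 1 (3 / 4) := by
  refine lb_one.mono ?_
  have := half_pow (Fact.out (p := p.Prime)) 2
  norm_num at this ⊢
  linarith

theorem lb_two [Fact p.Prime] : LB.{u} p 2 (5 / 4) := by
  intro G _ _ hG hn
  obtain ⟨v, hv, hr⟩ := exists_step hG hn (by norm_num)
  have hle := (step_bound hG hn hv).1
  obtain hr' | hr' : br p v = 1 ∨ br p v = 2 := by omega
  · have h := (step_half hG hn hv hr' lb_one').1
    norm_num at h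
    linarith
  · have h := (step_half hG hn hv hr' lb_zero).2
    norm_num at h
    linarith

theorem lb_two_odd [Fact p.Prime] (hp2 : p ≠ 2) : LB.{u} p 2 (11 / 8) := by
  intro G _ _ hG hn
  have hp : p.Prime := Fact.out
  obtain ⟨v, hv, hr⟩ := exists_step hG hn (by norm_num)
  have hle := (step_bound hG hn hv).1
  obtain hr' | hr' : br p v = 1 ∨ br p v = 2 := by omega
  · have h := ((step_bound hG hn hv).2 (3 / 4) (by rw [hr']; exact lb_one')).1
    have h3 : (1 / (p : ℚ)) ≤ 1 / 3 :=
      one_div_le_one_div_of_le (by norm_num) (by exact_mod_cast (show 3 ≤ p by have := hp.two_le; omega))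
    rw [hr', pow_one] at h
    linarith
  · have h := (step_half hG hn hv hr' lb_zero).2
    norm_num at h
    linarith

theorem lb_three [Fact p.Prime] : LB.{u} p 3 (7 / 4) := by
  intro G _ _ hG hn
  obtain ⟨v, hv, hr⟩ := exists_step hG hn (by norm_num)
  have hle := (step_bound hG hn hv).1
  obtain hr' | hr' | hr' : br p v = 1 ∨ br p v = 2 ∨ br p v = 3 := by omega
  · have h := (step_half hG hn hv hr' lb_two).1
    norm_num at h
    linarith
  · have h := (step_half hG hn hv hr' lb_one').2
    norm_num at h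
    linarith
  · have h := (step_half hG hn hv hr' lb_zero).2
    norm_num at h
    linarith

theorem inf_card_mul_relIndex [Finite G] (H K : Subgroup G) :
    Nat.card ↥(H ⊓ K) * H.relIndex K = Nat.card ↥K := by
  rw [← Subgroup.inf_relIndex_right H K,
    ← Nat.card_congr (Subgroup.subgroupOfEquivOfLe (inf_le_right : H ⊓ K ≤ K)).toEquiv]
  exact Subgroup.card_mul_index _

theorem secondCenter_commute {u c : G} (hu : u ∈ secondCenter G) (hc : c ∈ commutator G) :
    u * c = c * u := by
  have hvc : ∀ h ∈ (⊤ : Subgroup G), ⁅u, h⁆ ∈ Subgroup.center G :=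
    fun h _ => mem_secondCenter.mp hu h
  suffices h : commutator G ≤ Subgroup.centralizer ({u} : Set G) by
    exact ((Subgroup.mem_centralizer_singleton_iff).mp (h hc)).symm
  rw [commutator_def, Subgroup.commutator_le]
  intro g _ h _
  rw [mem_centralizer_singleton']
  have h1 := map_commutatorElement (commHom u ⊤ hvc) ⟨g, Subgroup.mem_top g⟩ ⟨h, Subgroup.mem_top h⟩
  rw [commHom_apply] at h1
  refine h1.trans (commutatorElement_eq_one_iff_mul_comm.mpr ?_)
  exact (Subgroup.mem_center_iff.mp (hvc g (Subgroup.mem_top g)) _).symm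

/-- An element centralizing the abelian group `G'` all of whose commutators are `1` or `u` modulo
the centre lies in the second centre, unless `⁅u, G⁆` has order at most two. -/
theorem mem_secondCenter_of_shape [Finite G] {x u : G} (hu : u ∈ secondCenter G)
    (hidx : 2 < (Subgroup.centralizer ({u} : Set G)).index)
    (hab : ∀ a ∈ commutator G, ∀ b ∈ commutator G, a * b = b * a)
    (hx : ∀ a ∈ commutator G, x * a = a * x)
    (hshape : ∀ y : G, ⁅x, y⁆ ∈ Subgroup.center G ∨ u⁻¹ * ⁅x, y⁆ ∈ Subgroup.center G) :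
    x ∈ secondCenter G := by
  classical
  have huz : ∀ w : G, ⁅u, w⁆ ∈ Subgroup.center G := mem_secondCenter.mp hu
  have hmemG : ∀ a b : G, ⁅a, b⁆ ∈ commutator G := fun a b => by
    rw [commutator_def]
    exact Subgroup.commutator_mem_commutator (Subgroup.mem_top _) (Subgroup.mem_top _)
  have hS : ∀ y : G, ⁅x, y⁆ ∈ secondCenter G := by
    intro y
    rcases hshape y with h | h
    · exact center_le_secondCenter h
    · have := (secondCenter G).mul_mem hu (center_le_secondCenter h)
      rwa [mul_inv_cancel_left] at this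
  have key : ∀ y z : G, ⁅y, ⁅x, z⁆⁆ = ⁅z, ⁅x, y⁆⁆ := by
    intro y z
    set A := ⁅x, y⁆ with hA
    set B := ⁅x, z⁆ with hB
    have hAB : A * B = B * A := hab A (hmemG x y) B (hmemG x z)
    have e1 : ⁅x, y * z⁆ = A * (y * B * y⁻¹) := by
      simp only [hA, hB, commutatorElement_def]; group
    have e2 : ⁅x, z * y⁆ = B * (z * A * z⁻¹) := by
      simp only [hA, hB, commutatorElement_def]; group
    have e3 : ⁅x, y * z⁆ = ⁅x, z * y⁆ := by
      set c := ⁅y, z⁆ with hc
      have hyz : y * z = c * (z * y) := by simp only [hc, commutatorElement_def]; group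
      have hxc : ⁅x, c⁆ = 1 := commutatorElement_eq_one_iff_mul_comm.mpr (hx c (hmemG y z))
      have h4 : ⁅x, c * (z * y)⁆ = ⁅x, c⁆ * (c * ⁅x, z * y⁆ * c⁻¹) := by
        simp only [commutatorElement_def]; group
      rw [hyz, h4, hxc, one_mul, hab c (hmemG y z) _ (hmemG x (z * y)), mul_inv_cancel_right]
    rw [e1, e2] at e3
    have hb' : y * B * y⁻¹ = ⁅y, B⁆ * B := by simp only [commutatorElement_def]; group
    have ha' : z * A * z⁻¹ = ⁅z, A⁆ * A := by simp only [commutatorElement_def]; group
    have hBc : ⁅y, B⁆ ∈ Subgroup.center G := by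
      rw [← commutatorElement_inv]
      exact Subgroup.inv_mem _ (mem_secondCenter.mp (hS z) y)
    have hAc : ⁅z, A⁆ ∈ Subgroup.center G := by
      rw [← commutatorElement_inv]
      exact Subgroup.inv_mem _ (mem_secondCenter.mp (hS y) z)
    rw [hb', ha', ← mul_assoc, ← mul_assoc, Subgroup.mem_center_iff.mp hBc A,
      Subgroup.mem_center_iff.mp hAc B, mul_assoc, mul_assoc, hAB] at e3
    exact mul_right_cancel e3
  rw [mem_secondCenter]
  intro y
  by_contra hy
  have hyu : u⁻¹ * ⁅x, y⁆ ∈ Subgroup.center G := (hshape y).resolve_left hy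
  have hval : ∀ (w s : G) , u⁻¹ * w ∈ Subgroup.center G → ⁅s, w⁆ = ⁅s, u⁆ := by
    intro w s hw
    obtain ⟨z, hz, rfl⟩ : ∃ z, z ∈ Subgroup.center G ∧ u * z = w := ⟨u⁻¹ * w, hw, mul_inv_cancel_left u w⟩
    have hzs := Subgroup.mem_center_iff.mp hz
    simp only [commutatorElement_def, mul_inv_rev]
    calc s * (u * z) * s⁻¹ * (z⁻¹ * u⁻¹)
        = s * u * (z * s⁻¹) * (z⁻¹ * u⁻¹) := by group
      _ = s * u * (s⁻¹ * z) * (z⁻¹ * u⁻¹) := by rw [← hzs s⁻¹]
      _ = s * u * s⁻¹ * u⁻¹ := by group
  have hsub : ((commHom u ⊤ (fun h _ => huz h)).range : Set G) ⊆ {1, ⁅u, y⁆} := by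
    rintro _ ⟨⟨z, -⟩, rfl⟩
    rw [commHom_apply]
    show ⁅u, z⁆ = 1 ∨ ⁅u, z⁆ = ⁅u, y⁆
    have hk := key y z
    rw [hval _ z hyu] at hk
    rcases hshape z with hz | hz
    · refine Or.inl ?_
      have h0 : ⁅y, ⁅x, z⁆⁆ = 1 :=
        commutatorElement_eq_one_iff_mul_comm.mpr (Subgroup.mem_center_iff.mp hz y)
      rw [h0] at hk
      rw [← commutatorElement_inv, ← hk, inv_one]
    · refine Or.inr ?_
      rw [hval _ y hz] at hk
      rw [← commutatorElement_inv z u, ← hk, commutatorElement_inv]
  have hcard := Set.ncard_le_ncard hsub (Set.toFinite _)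
  have h2 : ({1, ⁅u, y⁆} : Set G).ncard ≤ 2 := by
    have := Set.ncard_insert_le (1 : G) {⁅u, y⁆}
    rw [Set.ncard_singleton] at this
    omega
  have h3 : ((commHom u ⊤ (fun h _ => huz h)).range : Set G).ncard =
      (Subgroup.centralizer ({u} : Set G)).index := by
    rw [← Nat.card_coe_set_eq, SetLike.coe_sort_coe, card_range_commHom, Subgroup.relIndex_top_right]
  omega

theorem mean_lt_two [Fintype G] [Fact p.Prime] (hG : IsPGroup p G) (h : ∀ g : G, br p g ≤ 2) :
    meanBr p G < 2 := by
  have hP : (0 : ℚ) < Fintype.card G := by exact_mod_cast Fintype.card_pos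
  rw [meanBr, div_lt_iff₀ hP]
  have : sumBr p G < 2 * Fintype.card G := by
    calc sumBr p G < ∑ _g : G, 2 := by
          refine Finset.sum_lt_sum (fun g _ => h g) ⟨1, Finset.mem_univ _, ?_⟩
          rw [(br_eq_zero hG).mpr (Subgroup.one_mem _)]
          norm_num
      _ = 2 * Fintype.card G := by simp [mul_comm]
  exact_mod_cast this

section four

variable [Fintype G]

/-- Lower bound for the drop modulo a central `N ≥ ⁅Z₂, G⁆`. -/
theorem drop_bound (hG : IsPGroup 2 G) (N : Subgroup G) [N.Normal]
    (hZN : ∀ v ∈ secondCenter G, ∀ h : G, ⁅v, h⁆ ∈ N)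
    (hall : ∀ v ∈ secondCenter G, v ∉ Subgroup.center G → br 2 v = 2) :
    2 * (Fintype.card G : ℤ) * Nat.card ↥(secondCenter G)
        - 3 * Fintype.card G * Nat.card ↥(Subgroup.center G)
      ≤ Nat.card ↥(secondCenter G) * ((∑ g : G, drop 2 N g : ℕ) : ℤ) := by
  classical
  haveI : Fact (Nat.Prime 2) := ⟨Nat.prime_two⟩
  set S := secondCenter G with hS
  let c : G → ℕ := fun g => Nat.card ↥((Subgroup.centralizer ({g} : Set G)).subgroupOf S)
  have hc : ∀ g : G, (Nat.card ↥S : ℤ) * (3 - (drop 2 N g : ℤ)) ≤ 4 * (c g : ℤ) := by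
    intro g
    have hle : (Subgroup.centralizer ({g} : Set G)).relIndex S ≤ 2 ^ drop 2 N g := by
      rw [← relIndex_upper N hG g]
      refine relIndex_mono ?_
      intro v hv
      rw [mem_upper, ← commutatorElement_inv]
      exact N.inv_mem (hZN v hv g)
    have hmul : c g * (Subgroup.centralizer ({g} : Set G)).relIndex S = Nat.card ↥S :=
      Subgroup.card_mul_index _
    have h1 : Nat.card ↥S ≤ c g * 2 ^ drop 2 N g := hmul ▸ Nat.mul_le_mul_left _ hle
    rcases Nat.lt_or_ge (drop 2 N g) 3 with h3 | h3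
    · obtain h' | h' | h' : drop 2 N g = 0 ∨ drop 2 N g = 1 ∨ drop 2 N g = 2 := by omega
      all_goals rw [h'] at h1 ⊢
      all_goals norm_num at h1 ⊢
      all_goals omega
    · have : (3 : ℤ) - (drop 2 N g : ℤ) ≤ 0 := by omega
      nlinarith [Int.natCast_nonneg (Nat.card ↥S), Int.natCast_nonneg (c g)]
  have hsum : ∑ g : G, c g =
      ∑ v : ↥S, Nat.card ↥(Subgroup.centralizer ({(v : G)} : Set G)) := by
    have e1 : ∀ g : G, c g = ∑ v : ↥S, if g * (v : G) = v * g then 1 else 0 := by
      intro g
      rw [Finset.sum_boole, Nat.cast_id]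
      show Nat.card ↥((Subgroup.centralizer ({g} : Set G)).subgroupOf S) = _
      rw [Nat.card_eq_fintype_card, Fintype.card_subtype]
      congr 1
      ext v
      simp [Subgroup.mem_subgroupOf, Subgroup.mem_centralizer_singleton_iff, eq_comm]
    have e2 : ∀ v : ↥S, Nat.card ↥(Subgroup.centralizer ({(v : G)} : Set G)) =
        ∑ g : G, if g * (v : G) = v * g then 1 else 0 := by
      intro v
      rw [Finset.sum_boole, Nat.cast_id, Nat.card_eq_fintype_card, Fintype.card_subtype]
      congr 1
      ext g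
      simp [Subgroup.mem_centralizer_singleton_iff]
    simp only [e1, e2]
    exact Finset.sum_comm
  have hv : ∀ v : ↥S, 4 * Nat.card ↥(Subgroup.centralizer ({(v : G)} : Set G)) =
      Fintype.card G + 3 * Fintype.card G * (if (v : G) ∈ Subgroup.center G then 1 else 0) := by
    intro v
    have h := card_centralizer_mul hG (v : G)
    rw [Nat.card_eq_fintype_card (α := G)] at h
    by_cases hz : (v : G) ∈ Subgroup.center G
    · rw [(br_eq_zero hG).mpr hz, pow_zero, mul_one] at h
      rw [if_pos hz, h]; ring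
    · rw [hall v v.2 hz] at h
      rw [if_neg hz, ← h]; ring
  have hz : (∑ v : ↥S, if (v : G) ∈ Subgroup.center G then 1 else 0) =
      Nat.card ↥(Subgroup.center G) := by
    rw [Finset.sum_boole, Nat.cast_id,
      ← Nat.card_congr (Subgroup.subgroupOfEquivOfLe (center_le_secondCenter (G := G))).toEquiv,
      Nat.card_eq_fintype_card, Fintype.card_subtype]
    congr 1
    ext v
    simp [Subgroup.mem_subgroupOf]
  have h4 : 4 * ∑ g : G, c g =
      Fintype.card G * Nat.card ↥S + 3 * Fintype.card G * Nat.card ↥(Subgroup.center G) := by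
    rw [hsum, Finset.mul_sum, Finset.sum_congr rfl (fun v _ => hv v), Finset.sum_add_distrib,
      ← Finset.mul_sum, hz]
    simp [Nat.card_eq_fintype_card, mul_comm]
  have hle := Finset.sum_le_sum (s := (Finset.univ : Finset G)) fun g _ => hc g
  rw [← Finset.mul_sum, ← Finset.mul_sum, Finset.sum_sub_distrib] at hle
  simp only [Finset.sum_const, Finset.card_univ, nsmul_eq_mul] at hle
  have h4' : 4 * ((∑ g : G, c g : ℕ) : ℤ) =
      Fintype.card G * Nat.card ↥S + 3 * Fintype.card G * Nat.card ↥(Subgroup.center G) := by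
    exact_mod_cast h4
  push_cast at h4' hle ⊢
  linarith

/-- `p = 2`, `|G'| = 16` and all noncentral elements of the second centre have breadth two. -/
theorem four_special (hG : IsPGroup 2 G) (hn : Nat.card ↥(commutator G) = 2 ^ 4)
    (hall : ∀ v ∈ secondCenter G, v ∉ Subgroup.center G → br 2 v = 2) :
    9 / 4 ≤ meanBr 2 G := by
  classical
  haveI : Fact (Nat.Prime 2) := ⟨Nat.prime_two⟩
  have hmemG : ∀ a b : G, ⁅a, b⁆ ∈ commutator G := fun a b => by
    rw [commutator_def]
    exact Subgroup.commutator_mem_commutator (Subgroup.mem_top _) (Subgroup.mem_top _)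
  set Z := Subgroup.center G with hZ
  set S := secondCenter G with hS
  -- not all breadths are at most two
  obtain ⟨v0, hv0, hv0'⟩ := exists_step hG hn (by norm_num)
  have hv0z : v0 ∉ Z := fun h => by rw [(br_eq_zero hG).mpr h] at hv0'; omega
  have hbig : (2 : ℚ) ≤ meanBr 2 G := by
    have h := (step_half hG hn hv0 (hall v0 hv0 hv0z) lb_two).1
    norm_num at h
    linarith
  have hne : ¬ ∀ g : G, br 2 g ≤ 2 := fun h => absurd (mean_lt_two hG h) (by linarith)
  have hK : ¬ commutator G ≤ Z := by
    intro h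
    apply hne
    intro g
    by_cases hg : g ∈ Z
    · rw [(br_eq_zero hG).mpr hg]; omega
    · rw [hall g (mem_secondCenter.mpr fun x => h (hmemG g x)) hg]
  obtain ⟨u, huK, huS, huz⟩ := exists_mem_secondCenter hG (commutator G) hK
  have hidx : (Subgroup.centralizer ({u} : Set G)).index = 4 := by
    rw [index_centralizer hG, hall u huS huz]; norm_num
  set W := Z ⊓ commutator G with hW
  haveI : W.Normal := by rw [hW]; infer_instance
  set D := secondCenter G ⊓ commutator G with hD
  haveI : D.Normal := by rw [hD]; infer_instance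
  have hWD : W ≤ D := inf_le_inf_right _ center_le_secondCenter
  have hWlt : W < D := lt_of_le_of_ne hWD fun h =>
    huz (Subgroup.mem_inf.mp (h ▸ (Subgroup.mem_inf.mpr ⟨huS, huK⟩) : u ∈ W)).1
  have hDK : D ≤ commutator G := inf_le_right
  have hW4 : 4 ≤ Nat.card ↥W := by
    rw [← hidx, ← Subgroup.relIndex_top_right (H := Subgroup.centralizer ({u} : Set G)),
      ← card_range_commHom u ⊤ (fun h _ => mem_secondCenter.mp huS h)]
    refine Subgroup.card_le_of_le ?_
    rintro _ ⟨h, rfl⟩
    exact ⟨mem_secondCenter.mp huS h, hmemG u h⟩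
  have hDW := PGroup.mul_card_le_card hG hWlt
  have hD16 : Nat.card ↥D ≤ 16 := by
    calc Nat.card ↥D ≤ Nat.card ↥(commutator G) := Subgroup.card_le_of_le hDK
      _ = 16 := by rw [hn]; norm_num
  obtain ⟨w, hw⟩ := PGroup.card_eq_pow hG W
  obtain ⟨d, hd⟩ := PGroup.card_eq_pow hG D
  have hw2 : 2 ≤ w := by
    rw [hw] at hW4
    exact (Nat.pow_le_pow_iff_right (a := 2) (by norm_num)).mp (by simpa using hW4)
  have hwd : w + 1 ≤ d := by
    rw [hw, hd, ← pow_succ'] at hDW
    exact (Nat.pow_le_pow_iff_right (a := 2) (by norm_num)).mp hDW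
  have hd4 : d ≤ 4 := by
    rw [hd] at hD16
    exact (Nat.pow_le_pow_iff_right (a := 2) (by norm_num)).mp (by simpa using hD16)
  -- the quotient by `W`
  haveI : Fintype (G ⧸ W) := Fintype.ofFinite _
  have hqn : Nat.card ↥(commutator (G ⧸ W)) = 2 ^ (4 - w) := by
    have h := card_commutator_quotient W inf_le_right
    rw [hw, hn] at h
    refine Nat.eq_of_mul_eq_mul_right (pow_pos (by norm_num : 0 < 2) w) ?_
    rw [h, ← pow_add, Nat.sub_add_cancel (by omega)]
  have hsplit := mean_split hG W
  have hP : (0 : ℚ) < Fintype.card G := by exact_mod_cast Fintype.card_pos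
  have hZW : ∀ v ∈ secondCenter G, ∀ h : G, ⁅v, h⁆ ∈ W :=
    fun v hv h => ⟨mem_secondCenter.mp hv h, hmemG v h⟩
  have hdrop : ∀ M : ℕ, 0 < M → M * Nat.card ↥Z ≤ Nat.card ↥S →
      2 - 3 / (M : ℚ) ≤ ((∑ g : G, drop 2 W g : ℕ) : ℚ) / Fintype.card G := by
    intro M hM hle
    have h := drop_bound hG W hZW hall
    rw [← hZ, ← hS] at h
    have h' : 2 * (Fintype.card G : ℚ) * Nat.card ↥S - 3 * Fintype.card G * Nat.card ↥Z ≤
        Nat.card ↥S * ((∑ g : G, drop 2 W g : ℕ) : ℚ) := by exact_mod_cast h
    have hle' : (M : ℚ) * Nat.card ↥Z ≤ Nat.card ↥S := by exact_mod_cast hle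
    have hSpos : (0 : ℚ) < Nat.card ↥S := by exact_mod_cast Nat.card_pos
    have hMpos : (0 : ℚ) < M := by exact_mod_cast hM
    rw [le_div_iff₀ hP]
    refine le_of_mul_le_mul_left ?_ hSpos
    refine le_trans ?_ h'
    have h3 : 3 * (Fintype.card G : ℚ) * Nat.card ↥Z ≤ 3 / (M : ℚ) * Fintype.card G * Nat.card ↥S := by
      rw [div_mul_eq_mul_div, div_mul_eq_mul_div, le_div_iff₀ hMpos]
      nlinarith
    nlinarith
  -- elements of `D` modulo `W`
  have hshape : W.relIndex D = 2 → ∀ a ∈ D, a ∈ Z ∨ u⁻¹ * a ∈ Z := by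
    intro h2 a ha
    by_cases haz : a ∈ Z
    · exact Or.inl haz
    refine Or.inr ?_
    have huD : u ∈ D := ⟨huS, huK⟩
    have hm := Subgroup.mul_mem_iff_of_index_two (H := W.subgroupOf D) h2
      (a := (⟨u⁻¹, D.inv_mem huD⟩ : ↥D)) (b := ⟨a, ha⟩)
    simp only [Subgroup.mem_subgroupOf] at hm
    refine (Subgroup.mem_inf.mp (hm.mpr ?_)).1
    constructor
    · exact fun h => absurd (by simpa using Z.inv_mem h.1) huz
    · exact fun h => absurd h.1 haz
  have hrelWD : W.relIndex D * 2 ^ w = 2 ^ d := by
    have h := inf_card_mul_relIndex W D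
    rw [inf_eq_left.mpr hWD, hw, hd] at h
    rw [mul_comm]; exact h
  obtain hw2' | hw3 : w = 2 ∨ w = 3 := by omega
  · -- `|W| = 4`
    subst hw2'
    rcases Nat.lt_or_ge d 4 with hd3 | hd4'
    · -- `|D| = 8` is impossible
      exfalso
      obtain rfl : d = 3 := by omega
      have h2 : W.relIndex D = 2 := by norm_num at hrelWD; omega
      have hlt : D < commutator G := lt_of_le_of_ne hDK fun h => by
        rw [h, hn] at hd; norm_num at hd
      obtain ⟨c, hcK, hcD⟩ := SetLike.exists_of_lt hlt
      have hDrel : D.relIndex (commutator G) = 2 := by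
        have h := inf_card_mul_relIndex D (commutator G)
        rw [inf_eq_left.mpr hDK, hd, hn] at h
        omega
      have hab : ∀ a ∈ commutator G, ∀ b ∈ commutator G, a * b = b * a := by
        intro a ha b hb
        by_cases haD : a ∈ D
        · exact secondCenter_commute haD.1 hb
        by_cases hbD : b ∈ D
        · exact (secondCenter_commute hbD.1 ha).symm
        have hmem : a⁻¹ * b ∈ D := by
          have hm := Subgroup.mul_mem_iff_of_index_two (H := D.subgroupOf (commutator G)) hDrel
            (a := (⟨a⁻¹, Subgroup.inv_mem _ ha⟩ : ↥(commutator G))) (b := ⟨b, hb⟩)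
          simp only [Subgroup.mem_subgroupOf] at hm
          refine hm.mpr ⟨fun h => absurd (by simpa using D.inv_mem h) haD, fun h => absurd h hbD⟩
        have hc' := secondCenter_commute hmem.1 ha
        calc a * b = a * (a * (a⁻¹ * b)) := by rw [mul_inv_cancel_left]
          _ = a * ((a⁻¹ * b) * a) := by rw [hc']
          _ = b * a := by group
      have hcy : ∀ y : G, ⁅c, y⁆ ∈ D := by
        intro y
        haveI : ((commutator G).map (QuotientGroup.mk' D)).Normal :=
          Subgroup.Normal.map inferInstance _ (QuotientGroup.mk'_surjective D)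
        have hcen := PGroup.le_center_of_card_eq (hG.to_quotient D)
          ((commutator G).map (QuotientGroup.mk' D))
          (by rw [← Subgroup.relIndex_ker, QuotientGroup.ker_mk', hDrel])
          (Subgroup.mem_map_of_mem _ hcK)
        refine (QuotientGroup.eq_one_iff (N := D) _).mp ?_
        show QuotientGroup.mk' D ⁅c, y⁆ = 1
        rw [map_commutatorElement, commutatorElement_eq_one_iff_mul_comm]
        exact (Subgroup.mem_center_iff.mp hcen _).symm
      exact hcD ⟨mem_secondCenter_of_shape huS (by omega) hab (fun a ha => hab c hcK a ha)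
        (fun y => hshape h2 _ (hcy y)), hcK⟩
    · -- `G' ≤ Z₂`
      have hDeq : D = commutator G := Subgroup.eq_of_le_of_card_ge hDK (by
        rw [hn, hd]; exact Nat.pow_le_pow_right (by norm_num) hd4')
      have hKS : commutator G ≤ S := hDeq ▸ inf_le_left
      have hM : 4 * Nat.card ↥Z ≤ Nat.card ↥S := by
        have h1 := inf_card_mul_relIndex Z (commutator G)
        rw [← hW, hw, hn] at h1
        have h2 : Z.relIndex (commutator G) ≤ Z.relIndex S :=
          relIndex_mono hKS
        have h3 := inf_card_mul_relIndex Z S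
        rw [inf_eq_left.mpr (center_le_secondCenter : Z ≤ S)] at h3
        norm_num at h1
        rw [← h3, mul_comm (Nat.card ↥Z)]
        exact Nat.mul_le_mul_right _ (by omega)
      have h := hdrop 4 (by norm_num) hM
      have hx := lb_two (G ⧸ W) (hG.to_quotient W) hqn
      rw [show (2 : ℚ) - 3 / ((4 : ℕ) : ℚ) = 5 / 4 by norm_num] at h
      linarith
  · -- `|W| = 8`
    subst hw3
    obtain rfl : d = 4 := by omega
    have h2 : W.relIndex D = 2 := by norm_num at hrelWD; omega
    have hDeq : D = commutator G := Subgroup.eq_of_le_of_card_ge hDK (by rw [hn, hd])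
    have hKS : commutator G ≤ S := hDeq ▸ inf_le_left
    have hab : ∀ a ∈ commutator G, ∀ b ∈ commutator G, a * b = b * a :=
      fun a ha b hb => secondCenter_commute (hKS ha) hb
    have hCS : Subgroup.centralizer ({u} : Set G) ≤ S := by
      intro x hx
      refine mem_secondCenter_of_shape huS (by omega) hab (fun a ha => ?_)
        (fun y => hshape h2 _ (hDeq ▸ hmemG x y))
      rcases hshape h2 a (hDeq ▸ ha) with h | h
      · exact Subgroup.mem_center_iff.mp h x
      · calc x * a = x * u * (u⁻¹ * a) := by group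
          _ = u * x * (u⁻¹ * a) := by rw [Subgroup.mem_centralizer_singleton_iff.mp hx]
          _ = u * (x * (u⁻¹ * a)) := by group
          _ = u * (u⁻¹ * a * x) := by rw [Subgroup.mem_center_iff.mp h x]
          _ = a * x := by group
    have hx := lb_one' (G ⧸ W) (hG.to_quotient W) hqn
    rcases Nat.lt_or_ge (Nat.card ↥S) (8 * Nat.card ↥Z) with hsmall | hge
    swap
    · have h := hdrop 8 (by norm_num) hge
      rw [show (2 : ℚ) - 3 / ((8 : ℕ) : ℚ) = 13 / 8 by norm_num] at h
      linarith
    have hC4 : Nat.card ↥(Subgroup.centralizer ({u} : Set G)) * 4 = Nat.card G := by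
      rw [← hidx, Subgroup.card_mul_index]
    have hCle := Subgroup.card_le_of_le hCS
    have hS4 : Nat.card ↥S ≤ 4 * Nat.card ↥Z := by
      obtain ⟨i, hi⟩ := PGroup.card_eq_pow hG S
      obtain ⟨j, hj⟩ := PGroup.card_eq_pow hG Z
      rw [hi, hj, show 8 * 2 ^ j = 2 ^ (j + 3) by ring] at hsmall
      have := (Nat.pow_lt_pow_iff_right (a := 2) (by norm_num)).mp hsmall
      rw [hi, hj, show 4 * 2 ^ j = 2 ^ (j + 2) by ring]
      exact Nat.pow_le_pow_right (by norm_num) (by omega)
    have hbig8 : 8 * Nat.card ↥Z < Nat.card G := by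
      by_contra h
      apply hne
      intro g
      by_cases hg : g ∈ Z
      · rw [(br_eq_zero hG).mpr hg]; omega
      have hlt : Z < Subgroup.centralizer ({g} : Set G) :=
        lt_of_le_of_ne (fun z hz => Subgroup.mem_centralizer_singleton_iff.mpr
          (Subgroup.mem_center_iff.mp hz g).symm)
          fun h' => hg (h' ▸ Subgroup.mem_centralizer_singleton_iff.mpr rfl)
      have h1 := PGroup.mul_card_le_card hG hlt
      have h2' := card_centralizer_mul hG g
      have h3 : 2 ^ br 2 g ≤ 2 ^ 2 := by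
        by_contra h4
        have : 2 * Nat.card ↥Z * 5 ≤ Nat.card G := by
          rw [← h2']; exact Nat.mul_le_mul h1 (by omega)
        have hz0 : 0 < Nat.card ↥Z := Nat.card_pos
        omega
      exact (Nat.pow_le_pow_iff_right (a := 2) (by norm_num)).mp h3
    have hCeq : Subgroup.centralizer ({u} : Set G) = S := by
      refine eq_of_le_of_not_lt hCS fun hlt => ?_
      have := PGroup.mul_card_le_card hG hlt
      omega
    have hvS : ∀ v ∈ S, v ∉ Z → Subgroup.centralizer ({v} : Set G) = S := by
      intro v hv hvz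
      set K0 := Z ⊔ Subgroup.zpowers u with hK0
      have hKS0 : K0 ≤ S := sup_le center_le_secondCenter (by simpa using huS)
      have hCv : S ≤ Subgroup.centralizer ({v} : Set G) := by
        have hK0v : K0 ≤ Subgroup.centralizer ({v} : Set G) := by
          refine sup_le (fun z hz => Subgroup.mem_centralizer_singleton_iff.mpr
            (Subgroup.mem_center_iff.mp hz v).symm) (Subgroup.zpowers_le.mpr ?_)
          rw [Subgroup.mem_centralizer_singleton_iff]
          exact (Subgroup.mem_centralizer_singleton_iff.mp (hCeq ▸ hv)).symm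
        by_cases hvK : v ∈ K0
        · intro x hxS
          rw [Subgroup.mem_centralizer_singleton_iff]
          have : K0 ≤ Subgroup.centralizer ({x} : Set G) := by
            refine sup_le (fun z hz => Subgroup.mem_centralizer_singleton_iff.mpr
              (Subgroup.mem_center_iff.mp hz x).symm) (Subgroup.zpowers_le.mpr ?_)
            rw [Subgroup.mem_centralizer_singleton_iff]
            exact (Subgroup.mem_centralizer_singleton_iff.mp (hCeq ▸ hxS)).symm
          exact (Subgroup.mem_centralizer_singleton_iff.mp (this hvK)).symm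
        · set K1 := K0 ⊔ Subgroup.zpowers v
          have hK1S : K1 ≤ S := sup_le hKS0 (by simpa using hv)
          have hlt1 : K0 < K1 := lt_of_le_of_ne le_sup_left fun h =>
            hvK (by have hv1 : v ∈ K1 := Subgroup.mem_sup_right (Subgroup.mem_zpowers v); rwa [← h] at hv1)
          have hlt0 : Z < K0 := lt_of_le_of_ne le_sup_left fun h =>
            huz (by have hu0 : u ∈ K0 := Subgroup.mem_sup_right (Subgroup.mem_zpowers u); rwa [← h] at hu0)
          have c0 := PGroup.mul_card_le_card hG hlt0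
          have c1 := PGroup.mul_card_le_card hG hlt1
          have : K1 = S := Subgroup.eq_of_le_of_card_ge hK1S (by omega)
          rw [← this]
          exact sup_le hK0v (Subgroup.zpowers_le.mpr (Subgroup.mem_centralizer_singleton_iff.mpr rfl))
      refine (Subgroup.eq_of_le_of_card_ge hCv ?_).symm
      have := card_centralizer_mul hG v
      rw [hall v hv hvz] at this
      rw [hCeq] at hC4
      omega
    have hdr : ∀ g : G, g ∉ S → 2 ≤ drop 2 W g := by
      intro g hg
      have hinf : Subgroup.centralizer ({g} : Set G) ⊓ S = Z := by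
        refine le_antisymm ?_ (le_inf (fun z hz => Subgroup.mem_centralizer_singleton_iff.mpr
          (Subgroup.mem_center_iff.mp hz g).symm) center_le_secondCenter)
        intro v hv
        by_contra hvz
        apply hg
        rw [← hvS v hv.2 hvz, Subgroup.mem_centralizer_singleton_iff]
        exact (Subgroup.mem_centralizer_singleton_iff.mp hv.1).symm
      have h1 := inf_card_mul_relIndex (Subgroup.centralizer ({g} : Set G)) S
      rw [hinf] at h1
      have h2' : (Subgroup.centralizer ({g} : Set G)).relIndex S ≤ 2 ^ drop 2 W g := by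
        rw [← relIndex_upper W hG g]
        refine relIndex_mono ?_
        intro v hv
        rw [mem_upper, ← commutatorElement_inv]
        exact W.inv_mem (hZW v hv g)
      by_contra h3
      have h4 : 2 ^ drop 2 W g ≤ 2 ^ 1 := Nat.pow_le_pow_right (by norm_num) (by omega)
      have h5 : Nat.card ↥S ≤ Nat.card ↥Z * 2 := by
        rw [← h1]; exact Nat.mul_le_mul_left _ (by omega)
      rw [hCeq] at hC4
      omega
    have hsumd : 2 * (Fintype.card G - Nat.card ↥S) ≤ ∑ g : G, drop 2 W g := by
      have hSc : Nat.card ↥S = (Finset.univ.filter fun g : G => g ∈ S).card := by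
        rw [Nat.card_eq_fintype_card, Fintype.card_subtype]
      have hcompl := Finset.card_filter_add_card_filter_not
        (s := (Finset.univ : Finset G)) (fun g : G => g ∈ S)
      rw [Finset.card_univ] at hcompl
      calc 2 * (Fintype.card G - Nat.card ↥S)
          = ∑ _g ∈ Finset.univ.filter (fun g : G => g ∉ S), 2 := by
            rw [Finset.sum_const, smul_eq_mul, mul_comm]; omega
        _ ≤ ∑ g ∈ Finset.univ.filter (fun g : G => g ∉ S), drop 2 W g :=
            Finset.sum_le_sum fun g hg => hdr g (Finset.mem_filter.mp hg).2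
        _ ≤ _ := Finset.sum_le_univ_sum_of_nonneg (fun _ => Nat.zero_le _)
    rw [hCeq, Nat.card_eq_fintype_card (α := G)] at hC4
    have h6 : 3 * Fintype.card G ≤ 2 * ∑ g : G, drop 2 W g := by omega
    have h7 : (3 / 2 : ℚ) ≤ ((∑ g : G, drop 2 W g : ℕ) : ℚ) / Fintype.card G := by
      rw [le_div_iff₀ hP]
      have : (3 : ℚ) * Fintype.card G ≤ 2 * ((∑ g : G, drop 2 W g : ℕ) : ℚ) := by exact_mod_cast h6
      linarith
    linarith

end four

theorem lb_four [Fact p.Prime] : LB.{u} p 4 (9 / 4) := by
  intro G _ _ hG hn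
  have hp : p.Prime := Fact.out
  by_cases h : ∀ v ∈ secondCenter G, v ∉ Subgroup.center G → br p v = 2
  · by_cases hp2 : p = 2
    · subst hp2
      exact four_special hG hn h
    · obtain ⟨v, hv, hr⟩ := exists_step hG hn (by norm_num)
      have hvz : v ∉ Subgroup.center G := fun hz => by rw [(br_eq_zero hG).mpr hz] at hr; omega
      have hr2 := h v hv hvz
      have h1 := ((step_bound hG hn hv).2 (11 / 8) (by rw [hr2]; exact lb_two_odd hp2)).1
      have h3 : (1 / (p : ℚ)) ^ 2 ≤ (1 / 3) ^ 2 := by
        refine pow_le_pow_left₀ (by positivity) ?_ 2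
        exact one_div_le_one_div_of_le (by norm_num)
          (by exact_mod_cast (show 3 ≤ p by have := hp.two_le; omega))
      rw [hr2] at h1
      norm_num at h1 h3
      linarith
  · push Not at h
    obtain ⟨v, hv, hvz, hne⟩ := h
    have hle := (step_bound hG hn hv).1
    have h0 : br p v ≠ 0 := fun h0 => hvz ((br_eq_zero hG).mp h0)
    obtain hr' | hr' | hr' : br p v = 1 ∨ br p v = 3 ∨ br p v = 4 := by omega
    · have h1 := (step_half hG hn hv hr' lb_three).1
      norm_num at h1
      linarith
    · have h1 := (step_half hG hn hv hr' lb_one').2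
      norm_num at h1
      linarith
    · have h1 := (step_half hG hn hv hr' lb_zero).2
      norm_num at h1
      linarith

end Cfsg.Agent.Breadth
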